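import Groth.Agent.QCoh.PullbackBC
import Groth.Agent.QCoh.Pullback
import Groth.Agent.QCoh.Stalk
import Mathlib.RingTheory.Flat.FaithfullyFlat.Algebra

/-!
# The stalk of an inverse image of a quasi-coherent module
-/

set_option backward.isDefEq.respectTransparency false
set_option backward.isDefEq.respectTransparency.types false
set_option linter.style.haveILetI false

universe u

open CategoryTheory AlgebraicGeometry TopologicalSpace Opposite
open scoped TensorProduct

namespace Groth.Agent.QCoh

/-- The stalk of an inverse image is the base change of the stalk. -/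
theorem nonempty_pullStalkEquiv {X Y : Scheme.{u}} (f : X ⟶ Y) {G : Y.Modules} (hG : Coh.IsQCoh G) (x : X) :
    letI : Algebra (Y.presheaf.stalk (f x)) (X.presheaf.stalk x) := (f.stalkMap x).hom.toAlgebra
    Nonempty (((Scheme.Modules.pullback f).obj G).presheaf.stalk x ≃ₗ[X.presheaf.stalk x]
      X.presheaf.stalk x ⊗[Y.presheaf.stalk (f x)] G.presheaf.stalk (f x)) := by
  obtain ⟨_, ⟨V, hV, rfl⟩, hxV, -⟩ :=
    Y.isBasis_affineOpens.exists_subset_of_mem_open (Set.mem_univ (f x)) isOpen_univ
  obtain ⟨_, ⟨W, hW, rfl⟩, hxW, hWV⟩ :=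
    X.isBasis_affineOpens.exists_subset_of_mem_open (show x ∈ f ⁻¹ᵁ V from hxV) (f ⁻¹ᵁ V).isOpen
  have hle : W ≤ f ⁻¹ᵁ V := hWV
  let G' := (Scheme.Modules.pullback f).obj G
  let K := Y.presheaf.stalk (f x)
  let L := X.presheaf.stalk x
  letI aVK : Algebra Γ(Y, V) K := stalkAlg (X := Y) hxV
  letI aWL : Algebra Γ(X, W) L := stalkAlg (X := X) hxW
  letI aVW : Algebra Γ(Y, V) Γ(X, W) := (f.appLE V W hle).hom.toAlgebra
  letI aKL : Algebra K L := (f.stalkMap x).hom.toAlgebra
  letI aVL : Algebra Γ(Y, V) L := ((X.presheaf.germ W x hxW).hom.comp (f.appLE V W hle).hom).toAlgebra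
  haveI : IsScalarTower Γ(Y, V) Γ(X, W) L := IsScalarTower.of_algebraMap_eq fun _ => rfl
  haveI : IsScalarTower Γ(Y, V) K L := IsScalarTower.of_algebraMap_eq fun r => by
    show X.presheaf.germ W x hxW (f.appLE V W hle r) = f.stalkMap x (Y.presheaf.germ V (f x) hxV r)
    rw [Scheme.Hom.germ_stalkMap_apply, Scheme.Hom.appLE, ConcreteCategory.comp_apply,
      TopCat.Presheaf.germ_res_apply]
  letI := stalkModule G hxV
  letI := stalkModule G' hxW
  haveI := isScalarTower_stalk G hxV
  haveI := isScalarTower_stalk G' hxW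
  haveI := isLocalization_stalk' hV hxV
  haveI := isLocalization_stalk' hW hxW
  haveI := isLocalizedModule_germLin hG hV hxV
  haveI := isLocalizedModule_germLin (isQCoh_pullback f hG) hW hxW
  letI : Module Γ(Y, V) Γ(G', W) := Module.compHom _ (f.appLE V W hle).hom
  haveI : IsScalarTower Γ(Y, V) Γ(X, W) Γ(G', W) := IsScalarTower.of_algebraMap_smul fun _ _ => rfl
  let l : Γ(G, V) →ₗ[Γ(Y, V)] Γ(G', W) :=
    { toFun := pullSec f G hle
      map_add' := pullSec_add f G hle
      map_smul' := fun a m => pullSec_smul f G hle a m }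
  have h1 : IsBaseChange Γ(X, W) l :=
    isBaseChange_pullback (hV := hV) (hW := hW) f hG hle (fun _ => rfl) l fun _ => rfl
  have h2 : IsBaseChange L (germLin G' hxW) :=
    IsLocalizedModule.isBaseChange (hW.primeIdealOf ⟨x, hxW⟩).asIdeal.primeCompl L (germLin G' hxW)
  have h3 : IsBaseChange K (germLin G hxV) :=
    IsLocalizedModule.isBaseChange (hV.primeIdealOf ⟨f x, hxV⟩).asIdeal.primeCompl K (germLin G hxV)
  let e : G'.presheaf.stalk x ≃ₗ[L] L ⊗[K] (K ⊗[Γ(Y, V)] Γ(G, V)) :=
    h2.equiv.symm ≪≫ₗ TensorProduct.AlgebraTensorModule.congr (.refl L L) h1.equiv.symm ≪≫ₗ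
      TensorProduct.AlgebraTensorModule.cancelBaseChange Γ(Y, V) Γ(X, W) L L Γ(G, V) ≪≫ₗ
      (TensorProduct.AlgebraTensorModule.cancelBaseChange Γ(Y, V) K L L Γ(G, V)).symm
  exact ⟨e ≪≫ₗ TensorProduct.AlgebraTensorModule.congr (.refl L L) h3.equiv⟩

end Groth.Agent.QCoh

namespace Groth.Agent.QCoh

open TensorProduct in
theorem flat_tensor_faithfullyFlat_iff {A K L N : Type u} [CommRing A] [CommRing K] [CommRing L]
    [Algebra A K] [Algebra K L] [Algebra A L] [IsScalarTower A K L] [Module.FaithfullyFlat K L]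
    [AddCommGroup N] [Module K N] [Module A N] [IsScalarTower A K N] :
    Module.Flat A (L ⊗[K] N) ↔ Module.Flat A N := by
  simp only [Module.Flat.iff_lTensor_injectiveₛ]
  refine forall_congr' fun P => forall_congr' fun _ => forall_congr' fun _ => forall_congr' fun Q => ?_
  have hcomm : (Q.subtype.lTensor (L ⊗[K] N) : (L ⊗[K] N) ⊗[A] Q → (L ⊗[K] N) ⊗[A] P) =
      (AlgebraTensorModule.assoc A K K L N P).symm ∘ (AlgebraTensorModule.lTensor K N Q.subtype).lTensor L ∘
        AlgebraTensorModule.assoc A K K L N Q := by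
    funext z
    induction z using TensorProduct.induction_on with
    | zero => simp
    | add a b ha hb => simp only [Function.comp_apply, map_add] at ha hb ⊢; rw [ha, hb]
    | tmul w k =>
      induction w using TensorProduct.induction_on with
      | zero => simp
      | add a b ha hb => simp only [Function.comp_apply, TensorProduct.add_tmul, map_add] at ha hb ⊢; rw [ha, hb]
      | tmul l p => simp
  rw [hcomm, EquivLike.comp_injective, EquivLike.injective_comp,
    Module.FaithfullyFlat.lTensor_injective_iff_injective, AlgebraTensorModule.coe_lTensor]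

end Groth.Agent.QCoh
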