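import Groth.Agent.QCoh.SerreEpi
import Groth.Agent.QCoh.ExtendFT
import Groth.Agent.SymX.FiniteImm

/-!
# Serre's criterion with ideals of finite type
-/

universe u

set_option backward.isDefEq.respectTransparency false
set_option backward.isDefEq.respectTransparency.types false
set_option linter.style.haveILetI false

open CategoryTheory CategoryTheory.Limits AlgebraicGeometry TopologicalSpace Opposite

attribute [local instance] Groth.Agent.QCoh.hasFiniteBiproducts

namespace Groth.Agent.QCoh.SerreFT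

variable {X : Scheme.{u}}

/-- The image of a module of finite type is of finite type. -/
theorem isFT_image {F G : X.Modules} (hF : Coh.IsQCoh F) (hFt : CohB1.IsFT F) (hG : Coh.IsQCoh G)
    (φ : F ⟶ G) : Coh.IsQCoh (Limits.image φ) ∧ CohB1.IsFT (Limits.image φ) := by
  have hI : Coh.IsQCoh (Limits.image φ) :=
    (isQCoh_iff_iso (Abelian.imageIsoImage φ)).1 (isQCoh_kernel hG (isQCoh_cokernel hF hG φ) _)
  refine ⟨hI, (isFT_iff hI).2 fun U => ?_⟩
  haveI := finite_of_isFT hF hFt U.2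
  exact Module.Finite.of_surjective (appLin (factorThruImage φ) U.1)
    (app_surjective_of_epi hF hI (factorThruImage φ) U.2)

/-- Finitely many sections over affine opens lie in a submodule of finite type. -/
theorem exists_ft_containing [CompactSpace X] [QuasiSeparatedSpace X] {A : X.Modules} (hA : Coh.IsQCoh A)
    {β : Type u} [Fintype β] (V : β → X.Opens) (hV : ∀ m, IsAffineOpen (V m)) (s : ∀ m, Γ(A, V m)) :
    ∃ (A' : X.Modules) (j : A' ⟶ A), Mono j ∧ Coh.IsQCoh A' ∧ CohB1.IsFT A' ∧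
      ∀ m, ∃ w, j.app (V m) w = s m := by
  have hm : ∀ m, ∃ N : SubMod A, FTOn N ⊤ ∧ s m ∈ N.mem (V m) := fun m => by
    obtain ⟨p, hpU, hsup, hstep⟩ := extStep_qcqs (X := X) (hV m).isCompact
    obtain ⟨N, hN, hag⟩ := exists_ftOn_top hA p hpU hsup hstep (ftOn_spanSub (hV m) (Set.finite_singleton (s m)))
    exact ⟨N, hN, (hag (V m) le_rfl).symm ▸ mem_spanSub rfl⟩
  choose N hN hs using hm
  let T : β → X.Modules := fun m => (N m).toModules
  have hq : ∀ m, Coh.IsQCoh (T m) := fun m => isQCoh_of_ftOn hA (hN m)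
  let φ : ⨁ T ⟶ A := biproduct.desc fun m => (N m).ι
  obtain ⟨hI, hIt⟩ := isFT_image (isQCoh_biproduct T hq)
    (SymX.isFT_biproduct T hq fun m => isFT_of_ftOn hA (hN m)) hA φ
  refine ⟨Limits.image φ, Limits.image.ι φ, inferInstance, hI, hIt, fun m => ?_⟩
  obtain ⟨w, hw⟩ := (N m).exists_app_eq (hs m)
  refine ⟨(biproduct.ι T m ≫ factorThruImage φ).app (V m) w, ?_⟩
  rw [← ConcreteCategory.comp_apply, ← Scheme.Modules.Hom.comp_app, Category.assoc, Limits.image.fac]
  simpa [φ, T] using hw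

/-- Surjectivity of global sections onto a quotient, from subideals of finite type. -/
theorem app_top_surjective [CompactSpace X] [QuasiSeparatedSpace X]
    (h : ∀ (I : X.Modules) (i : I ⟶ Coh.structureModule X), Mono i →
      Coh.IsQCoh I → CohB1.IsFT I → Subsingleton (Coh.HH X I 1))
    {A B : X.Modules} (hA : Coh.IsQCoh A) (hB : Coh.IsQCoh B) (a : A ⟶ B) [Mono a]
    (i : B ⟶ Coh.structureModule X) [Mono i] :
    Function.Surjective ((cokernel.π a).app ⊤) := by
  intro t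
  obtain ⟨F, hF⟩ := isCompact_univ.elim_finite_subcover (fun V : X.affineOpens => (V.1 : Set X))
    (fun V => V.1.2) fun x _ => by
      obtain ⟨V, hV, hxV⟩ := exists_affine_mem x
      exact Set.mem_iUnion.2 ⟨⟨V, hV⟩, hxV⟩
  have hQ := isQCoh_cokernel hA hB a
  choose b hb using fun k : F => app_surjective_of_epi hB hQ (cokernel.π a) k.1.2
    ((cokernel a).presheaf.map (homOfLE le_top).op t)
  have hS : (ShortComplex.mk a (cokernel.π a) (cokernel.condition a)).ShortExact :=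
    { exact := ShortComplex.exact_of_g_is_cokernel _ (cokernelIsCokernel a) }
  have hd : ∀ k l : F, ∃ d : Γ(A, k.1.1 ⊓ l.1.1), a.app _ d =
      B.presheaf.map (homOfLE inf_le_left).op (b k) - B.presheaf.map (homOfLE inf_le_right).op (b l) := by
    intro k l
    refine exists_app_f_eq hS _ _ ?_
    show (cokernel.π a).app _ _ = 0
    rw [map_sub, map_app_comm, map_app_comm, hb, hb, map_map, map_map]
    exact sub_self _
  choose d hd using hd
  have hc : ∀ k l : F, ∃ G : Finset X.affineOpens,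
      (∀ x ∈ k.1.1 ⊓ l.1.1, ∃ V ∈ G, x ∈ V.1) ∧ ∀ V ∈ G, V.1 ≤ k.1.1 ⊓ l.1.1 := by
    intro k l
    obtain ⟨G, hG⟩ := (QuasiSeparatedSpace.inter_isCompact _ _ k.1.1.2 k.1.2.isCompact l.1.1.2
      l.1.2.isCompact).elim_finite_subcover
      (fun V : {V : X.affineOpens // V.1 ≤ k.1.1 ⊓ l.1.1} => (V.1.1 : Set X)) (fun V => V.1.1.2) fun x hx => by
        obtain ⟨_, ⟨V, hV, rfl⟩, hxV, hVle⟩ := X.isBasis_affineOpens.exists_subset_of_mem_open
          (show x ∈ ((k.1.1 ⊓ l.1.1 : X.Opens) : Set X) from hx) (k.1.1 ⊓ l.1.1).2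
        exact Set.mem_iUnion.2 ⟨⟨⟨V, hV⟩, hVle⟩, hxV⟩
    classical
    refine ⟨G.image Subtype.val, fun x hx => ?_, fun V hV => ?_⟩
    · obtain ⟨V, hV, hxV⟩ := Set.mem_iUnion₂.1 (hG hx)
      exact ⟨V.1, Finset.mem_image_of_mem _ hV, hxV⟩
    · obtain ⟨W, -, rfl⟩ := Finset.mem_image.1 hV
      exact W.2
  choose G hG hGle using hc
  obtain ⟨A', j, _, hA', hA't, hj⟩ := exists_ft_containing hA
    (fun m : Σ k : F, Σ l : F, G k l => m.2.2.1.1) (fun m => m.2.2.1.2)
    (fun m => A.presheaf.map (homOfLE (hGle m.1 m.2.1 _ m.2.2.2)).op (d m.1 m.2.1))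
  haveI : Mono (j ≫ a) := mono_comp _ _
  have hS' : (ShortComplex.mk (j ≫ a) (cokernel.π (j ≫ a)) (cokernel.condition _)).ShortExact :=
    { exact := ShortComplex.exact_of_g_is_cokernel _ (cokernelIsCokernel _) }
  let Q := cokernel (j ≫ a)
  let π := cokernel.π (j ≫ a)
  have hcompat : TopCat.Presheaf.IsCompatible (X := X.toPresheafedSpace.carrier) Q.presheaf
      (fun k : F => k.1.1) (fun k => π.app _ (b k)) := by
    intro k l
    show Q.presheaf.map (homOfLE inf_le_left).op _ = Q.presheaf.map (homOfLE inf_le_right).op _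
    rw [← map_app_comm, ← map_app_comm, ← sub_eq_zero, ← map_sub, ← hd k l]
    refine eq_zero_of_locally _ _ fun x hx => ?_
    obtain ⟨V, hV, hxV⟩ := hG k l x hx
    refine ⟨V.1, homOfLE (hGle k l V hV), hxV, ?_⟩
    obtain ⟨w, hw⟩ := hj ⟨k, l, V, hV⟩
    rw [← map_app_comm, ← map_app_comm, ← hw]
    exact congr($(cokernel.condition (j ≫ a)).app V.1 w)
  obtain ⟨q, hq, -⟩ := TopCat.Sheaf.existsUnique_gluing' (X := X.toPresheafedSpace.carrier)
    (⟨Q.presheaf, Q.isSheaf⟩ : TopCat.Sheaf AddCommGrpCat.{u} X.toPresheafedSpace.carrier)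
    _ ⊤ (fun _ => homOfLE le_top) (fun x _ => by
      obtain ⟨V, hV, hxV⟩ := Set.mem_iUnion₂.1 (hF (Set.mem_univ x))
      exact Opens.mem_iSup.2 ⟨⟨V, hV⟩, hxV⟩) _ hcompat
  obtain ⟨s, hs⟩ := app_top_surjective_of_HH_one hS'
    (h A' (j ≫ a ≫ i) (by rw [← Category.assoc]; exact mono_comp _ _) hA' hA't) q
  refine ⟨s, sub_eq_zero.1 (eq_zero_of_locally _ _ fun x _ => ?_)⟩
  obtain ⟨V, hV, hxV⟩ := Set.mem_iUnion₂.1 (hF (Set.mem_univ x))
  refine ⟨V.1, homOfLE le_top, hxV, ?_⟩
  let c : Q ⟶ cokernel a := cokernel.desc _ (cokernel.π a) (by rw [Category.assoc, cokernel.condition, comp_zero])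
  have hπ : ∀ (W : X.Opens) (z : Γ(B, W)), c.app W (π.app W z) = (cokernel.π a).app W z := fun W z =>
    congr(($(cokernel.π_desc (j ≫ a) (cokernel.π a) _)).app W z)
  rw [map_sub, sub_eq_zero, ← map_app_comm, ← hb ⟨V, hV⟩, ← hπ, ← hπ, map_app_comm]
  exact congrArg (c.app V.1) ((congrArg (Q.presheaf.map (homOfLE le_top).op) hs).trans (hq ⟨V, hV⟩))

theorem isAffine_of_HH_one_ft [CompactSpace X] [QuasiSeparatedSpace X]
    (h : ∀ (I : X.Modules) (i : I ⟶ Coh.structureModule X), Mono i →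
      Coh.IsQCoh I → CohB1.IsFT I → Subsingleton (Coh.HH X I 1)) : IsAffine X :=
  SerreEpi.isAffine_of_vanSurj
    ⟨fun Z => app_top_surjective h (isQCoh_vanIdeal Z) isQCoh_structureModule _ (𝟙 _),
      fun Z' Z _ => app_top_surjective h (isQCoh_vanIdeal Z') (isQCoh_vanIdeal Z) _ (vanIdeal Z).ι⟩

end Groth.Agent.QCoh.SerreFT
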