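import Groth.Agent.QCoh.ExtendFT
import Groth.Agent.QCoh.DevissageTheta
import Groth.Agent.QCoh.SubCompare
import Groth.Agent.Algz7.Restrict

/-!
# Morphisms on an open subscheme as morphisms out of powers of an ideal (Deligne's formula)
-/

universe u

set_option backward.isDefEq.respectTransparency false
set_option backward.isDefEq.respectTransparency.types false
set_option linter.style.haveILetI false

open CategoryTheory CategoryTheory.Limits AlgebraicGeometry TopologicalSpace Opposite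

namespace Groth.Agent.QCoh

variable {X : Scheme.{u}}

theorem app_bijective_of_isIso_restrict {U : X.Opens} {M N : X.Modules} (g : M ⟶ N)
    [IsIso ((Scheme.Modules.restrictFunctor U.ι).map g)] {V : X.Opens} (hV : V ≤ U) :
    Function.Bijective (g.app V) := by
  have he : U.ι ''ᵁ (U.ι ⁻¹ᵁ V) = V := by
    rw [U.ι.image_preimage_eq_opensRange_inf, Scheme.Opens.opensRange_ι, inf_eq_right.2 hV]
  have h : ∀ W : X.Opens, U.ι ''ᵁ (U.ι ⁻¹ᵁ V) = W → Function.Bijective (g.app W) := by
    rintro _ rfl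
    have h1 := congrArg (fun φ => φ.app (U.ι ⁻¹ᵁ V)) (IsIso.hom_inv_id ((Scheme.Modules.restrictFunctor U.ι).map g))
    have h2 := congrArg (fun φ => φ.app (U.ι ⁻¹ᵁ V)) (IsIso.inv_hom_id ((Scheme.Modules.restrictFunctor U.ι).map g))
    exact Function.bijective_iff_has_inverse.2
      ⟨(inv ((Scheme.Modules.restrictFunctor U.ι).map g)).app (U.ι ⁻¹ᵁ V), fun x => congr($h1 x), fun y => congr($h2 y)⟩
  exact h V he

/-- A morphism on `U` comes from a morphism out of `I^n G`. -/
theorem exists_hom_idealPow [IsNoetherian X] {F G : X.Modules} (hF : Coh.IsQCoh F) (hG : Coh.IsCoh G)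
    (I : X.IdealSheafData) (U : X.Opens) (hU : (U : Set X) = (I.support : Set X)ᶜ)
    (φ : (Scheme.Modules.restrictFunctor U.ι).obj G ⟶ (Scheme.Modules.restrictFunctor U.ι).obj F) :
    ∃ (n : ℕ) (ψ : (Dual3.idealMul (I ^ n)).obj G ⟶ F),
      (Scheme.Modules.restrictFunctor U.ι).map ψ =
        (Scheme.Modules.restrictFunctor U.ι).map (Dual3.idealMulι (I ^ n) G) ≫ φ := by
  classical
  let R := Scheme.Modules.restrictFunctor U.ι
  have hX : ∀ x : X, ∃ W : X.Opens, x ∈ W ∧ NoetherianSpace (W : Set X) := fun x =>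
    ⟨⊤, trivial, TopologicalSpace.NoetherianSpace.set _⟩
  -- the graph, extended
  let i : R.obj G ⟶ R.obj (F ⊞ G) := φ ≫ R.map biprod.inl + R.map biprod.inr
  have hisnd : i ≫ R.map biprod.snd = 𝟙 _ := by
    rw [Preadditive.add_comp, Category.assoc, ← R.map_comp, ← R.map_comp, biprod.inl_snd, biprod.inr_snd,
      R.map_id, Functor.map_zero, Limits.comp_zero, zero_add]
  have hifst : i ≫ R.map biprod.fst = φ := by
    rw [Preadditive.add_comp, Category.assoc, ← R.map_comp, ← R.map_comp, biprod.inl_fst, biprod.inr_fst,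
      R.map_id, Functor.map_zero, add_zero, Category.comp_id]
  haveI : Mono i := by
    haveI : Mono (i ≫ R.map biprod.snd) := by rw [hisnd]; infer_instance
    exact mono_of_mono i (R.map biprod.snd)
  have hFG : Coh.IsQCoh (F ⊞ G) := isQCoh_X₂
    (S := ShortComplex.mk biprod.inl biprod.snd (biprod.inl_snd (X := F) (Y := G)))
    (ShortComplex.Splitting.ofHasBinaryBiproduct F G).shortExact hF hG.1
  have h₀ : Coh.IsQCoh (R.obj G) := isQCoh_restrict U.ι hG.1
  obtain ⟨G', i', e, -, hG'q, hG'ft, he⟩ := exists_extension' hFG (extStep_noetherian hX U) i h₀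
    (Algz7.isFT_restrict U.ι hG.1 hG.2)
  have hG' : Coh.IsCoh G' := ⟨hG'q, hG'ft⟩
  let g := i' ≫ biprod.snd
  have hg : R.map g = e.hom := by
    rw [R.map_comp, ← he]
    exact (Category.assoc _ _ _).trans ((congrArg (e.hom ≫ ·) hisnd).trans (Category.comp_id _))
  haveI : IsIso (R.map g) := by rw [hg]; infer_instance
  have hf : R.map (i' ≫ biprod.fst) = R.map g ≫ φ := by
    rw [hg, R.map_comp, ← he, Category.assoc, hifst]
  -- kernel
  have hK : Coh.IsCoh (kernel g) := isCoh_of_mono (kernel.ι g) hG' (isQCoh_kernel hG'q hG.1 g)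
  have hsupp : ∀ {N : X.Modules}, Coh.IsQCoh N → (∀ V : X.Opens, IsAffineOpen V → V ≤ U → ∀ z : Γ(N, V), z = 0) →
      CohB1.support N ⊆ (I.support : Set X) := fun {N} hN h x hx => by
    by_contra hxI
    have hxU : x ∈ U := hU.ge hxI
    obtain ⟨_, ⟨V, hV, rfl⟩, hxV, hVU⟩ := X.isBasis_affineOpens.exists_subset_of_mem_open hxU U.2
    refine (notMem_support_iff hN hV hxV).2 (fun z => ⟨1, ?_, ?_⟩) hx
    · rw [Scheme.basicOpen_of_isUnit _ isUnit_one]; exact hxV
    · rw [h V hV hVU z, smul_zero]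
  have hKs := hsupp hK.1 fun V _ hVU z => app_injective (kernel.ι g) V (by
    rw [map_zero]
    refine (app_bijective_of_isIso_restrict g hVU).1 ?_
    rw [map_zero]
    exact congr(($(kernel.condition g)).app V z))
  obtain ⟨a, ha⟩ := exists_pow_mono hG' hK (kernel.ι g) I hKs
  -- cokernel
  have hC : Coh.IsCoh (cokernel g) := isCoh_cokernel hG'q hG g
  have hCs := hsupp hC.1 fun V hV hVU z => by
    obtain ⟨y, rfl⟩ := app_surjective_of_epi hG.1 hC.1 (cokernel.π g) hV z
    obtain ⟨w, rfl⟩ := (app_bijective_of_isIso_restrict g hVU).2 y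
    exact congr(($(cokernel.condition g)).app V w)
  obtain ⟨b, hb⟩ := exists_pow_kills hC I hCs
  obtain ⟨J, hJ⟩ : ∃ J, J = I ^ a := ⟨_, rfl⟩
  have hid : ∀ V, J.ideal V = I.ideal V ^ a := fun V => by
    rw [hJ, Scheme.IdealSheafData.ideal_pow, Pi.pow_apply]
  rw [← hJ] at ha
  let h := Dual3.idealMulι J G' ≫ g
  haveI : Mono h := Preadditive.mono_of_cancel_zero _ fun {W} w hw => by
    obtain ⟨v, hv⟩ := KernelFork.IsLimit.lift' (kernelIsKernel g) (w ≫ Dual3.idealMulι J G')
      ((Category.assoc _ _ _).trans hw)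
    have h0 : v ≫ kernel.ι g ≫ (Scheme.Modules.pullbackPushforwardAdjunction J.subschemeι).unit.app G' = 0 := by
      rw [← Category.assoc]
      refine (congrArg (· ≫ _) hv).trans ((Category.assoc _ _ _).trans ?_)
      exact (congrArg (w ≫ ·) (kernel.condition _)).trans Limits.comp_zero
    have hv0 : v = 0 := zero_of_comp_mono _ h0
    rw [← cancel_mono (Dual3.idealMulι J G'), Limits.zero_comp, ← hv, hv0, Limits.zero_comp]
  have hle : Subobject.mk (Dual3.idealMulι (I ^ (a + b)) G) ≤ Subobject.mk h := by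
    refine subobject_le_of_cover (isQCoh_idealMul _ hG.1) (isQCoh_idealMul _ hG'q) hG.1 _ _
      (fun V : X.affineOpens => V.1) (fun V => V.2)
      (fun x => by obtain ⟨V, hV, hxV⟩ := exists_affine_mem x; exact ⟨⟨V, hV⟩, hxV⟩) fun V => ?_
    rw [range_idealMul _ hG.1 V.2, range_idealMul_comp J hG'q g V.2, hid, Scheme.IdealSheafData.ideal_pow,
      Pi.pow_apply, pow_add, ← smul_eq_mul, smul_assoc]
    refine Submodule.smul_mono le_rfl (Submodule.smul_le.2 fun r hr z _ => ?_)
    have h1 : (cokernel.π g).app V.1 (r • z) = 0 := by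
      rw [Scheme.Modules.Hom.app_smul]
      exact Module.mem_annihilator.1 (hb V hr) _
    obtain ⟨v, hv⟩ := exists_kernel_lift (cokernel.π g) V.1 _ h1
    obtain ⟨u, hu⟩ := app_surjective_of_epi hG'q
      (isQCoh_kernel hG.1 hC.1 (cokernel.π g)) (Abelian.factorThruImage g) V.2 v
    refine ⟨u, ?_⟩
    refine (congr(($(Abelian.image.fac g)).app V.1 u)).symm.trans ?_
    exact (congrArg ((Abelian.image.ι g).app V.1) hu).trans hv
  refine ⟨a + b, Subobject.ofMkLEMk _ h hle ≫ Dual3.idealMulι J G' ≫ i' ≫ biprod.fst, ?_⟩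
  have hcomp : (Subobject.ofMkLEMk _ h hle ≫ Dual3.idealMulι J G') ≫ g = Dual3.idealMulι (I ^ (a + b)) G :=
    (Category.assoc _ _ _).trans (Subobject.ofMkLEMk_comp hle)
  calc R.map (Subobject.ofMkLEMk _ h hle ≫ Dual3.idealMulι J G' ≫ i' ≫ biprod.fst)
      = R.map (Subobject.ofMkLEMk _ h hle ≫ Dual3.idealMulι J G') ≫ R.map (i' ≫ biprod.fst) := by
        rw [← R.map_comp, Category.assoc]
    _ = R.map (Dual3.idealMulι (I ^ (a + b)) G) ≫ φ := by
        rw [hf, ← Category.assoc, ← R.map_comp, hcomp]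

end Groth.Agent.QCoh
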