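import Groth.Agent.QCoh.SerreVan
import Groth.Agent.QCoh.Qcqs

/-!
# Serre's criterion from surjectivity on global sections

Variant of `isAffine_of_vanIdeal`: only surjectivity of global sections onto those of quotients of vanishing
ideals is used. Consequence: a qcqs morphism whose direct image keeps epimorphisms of quasi-coherent
modules is affine.
-/

universe u

set_option backward.isDefEq.respectTransparency false
set_option backward.isDefEq.respectTransparency.types false
set_option linter.style.haveILetI false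

open CategoryTheory CategoryTheory.Limits AlgebraicGeometry TopologicalSpace Opposite
open Groth.Agent.QCoh

namespace Groth.Agent.QCoh.SerreEpi

variable {X : Scheme.{u}}

/-- Global sections surject onto those of the quotients of vanishing ideals. -/
def VanSurj (X : Scheme.{u}) : Prop :=
  (∀ Z : Set X, Function.Surjective ((cokernel.π (vanIdeal Z).ι).app ⊤)) ∧
    ∀ (Z' Z : Set X) (hle : Z ⊆ Z'),
      Function.Surjective ((cokernel.π (SubMod.homOfLE (N := vanIdeal Z') (N' := vanIdeal Z)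
        (vanIdeal_mono hle))).app ⊤)

/-- Every closed point has an affine neighbourhood cut out by a global function. -/
theorem exists_basicOpen_affine
    (h : VanSurj X)
    {x : X} (hx : IsClosed ({x} : Set X)) :
    ∃ f : Γ(X, ⊤), x ∈ X.basicOpen f ∧ IsAffineOpen (X.basicOpen f) := by
  obtain ⟨_, ⟨U, hU₀, rfl⟩, hxU, -⟩ :=
    X.isBasis_affineOpens.exists_subset_of_mem_open (Set.mem_univ x) isOpen_univ
  have hU : IsAffineOpen U := hU₀
  let Z : Set X := (U : Set X)ᶜ
  let Z' : Set X := insert x Z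
  let j := SubMod.homOfLE (N := vanIdeal Z') (N' := vanIdeal Z)
    (vanIdeal_mono (Set.subset_insert x Z))
  let S : ShortComplex X.Modules := ShortComplex.mk j (cokernel.π j) (cokernel.condition j)
  have hS : S.ShortExact := { exact := ShortComplex.exact_of_g_is_cokernel _ (cokernelIsCokernel j) }
  let V : X.Opens := ⟨{x}ᶜ, hx.isOpen_compl⟩
  have hone : (show Γ(Coh.structureModule X, U) from (1 : Γ(X, U))) ∈ (vanIdeal Z).mem U :=
    fun z hz hzb => hz (X.basicOpen_le _ hzb)
  obtain ⟨e₁, he₁⟩ := (vanIdeal Z).exists_app_eq hone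
  let q₁ : Γ(S.X₃, U) := S.g.app U e₁
  have hcomp : S.X₃.presheaf.map (homOfLE (inf_le_left : U ⊓ V ≤ U)).op q₁ = 0 := by
    have hone' : (show Γ(Coh.structureModule X, U ⊓ V) from (1 : Γ(X, U ⊓ V))) ∈
        (vanIdeal Z').mem (U ⊓ V) := fun z hz hzb => by
      rcases hz with rfl | hz
      · exact (X.basicOpen_le _ hzb).2 rfl
      · exact hz (X.basicOpen_le _ hzb).1
    obtain ⟨e₂, he₂⟩ := (vanIdeal Z').exists_app_eq hone'
    have : S.X₂.presheaf.map (homOfLE (inf_le_left : U ⊓ V ≤ U)).op e₁ = S.f.app (U ⊓ V) e₂ := by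
      refine (vanIdeal Z).ι_app_injective _ ?_
      rw [map_app_comm, he₁]
      exact ((map_one (X.presheaf.map (homOfLE (inf_le_left : U ⊓ V ≤ U)).op).hom).trans he₂.symm :)
    rw [← map_app_comm, this, app_g_f]
  have hcov : (⊤ : X.Opens) ≤ iSup fun b : ULift.{u} Bool => cond b.down U V := fun z _ => by
    by_cases hz : z = x
    · exact Opens.mem_iSup.2 ⟨⟨true⟩, hz ▸ hxU⟩
    · exact Opens.mem_iSup.2 ⟨⟨false⟩, hz⟩
  have hcompat : TopCat.Presheaf.IsCompatible (X := X.toPresheafedSpace.carrier) S.X₃.presheaf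
      (fun b : ULift.{u} Bool => cond b.down U V)
      (fun b => match b with
        | ⟨true⟩ => q₁
        | ⟨false⟩ => (0 : Γ(S.X₃, V))) := by
    rintro ⟨_ | _⟩ ⟨_ | _⟩
    · rfl
    · refine (map_zero (S.X₃.presheaf.map _).hom).trans ?_
      have h' := congrArg (S.X₃.presheaf.map (homOfLE (le_of_eq (inf_comm V U))).op) hcomp
      rw [map_zero, map_map] at h'
      exact h'.symm
    · exact hcomp.trans (map_zero (S.X₃.presheaf.map _).hom).symm
    · rfl
  obtain ⟨q, hq, -⟩ := TopCat.Sheaf.existsUnique_gluing' (X := X.toPresheafedSpace.carrier)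
    (⟨S.X₃.presheaf, S.X₃.isSheaf⟩ : TopCat.Sheaf AddCommGrpCat.{u} X.toPresheafedSpace.carrier)
    _ ⊤ (fun _ => homOfLE le_top) hcov _ hcompat
  obtain ⟨e, he⟩ := h.2 Z' Z (Set.subset_insert x Z) q
  let f : Γ(X, ⊤) := toFn ((vanIdeal Z).ι.app ⊤ e)
  have hfU : X.basicOpen f ≤ U := fun z hz => by
    by_contra hzU
    exact (vanIdeal Z).ι_app_mem ⊤ e z hzU hz
  refine ⟨f, ?_, ?_⟩
  · have hd : S.g.app U (S.X₂.presheaf.map (homOfLE (le_top : U ≤ ⊤)).op e - e₁) = 0 := by
      rw [map_sub, map_app_comm, he, sub_eq_zero]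
      exact hq ⟨true⟩
    obtain ⟨a, ha⟩ := exists_app_f_eq hS U _ hd
    by_contra hxf
    have hxU' : x ∉ X.basicOpen (toFn ((vanIdeal Z').ι.app U a)) :=
      (vanIdeal Z').ι_app_mem U a x (Set.mem_insert x Z)
    rw [show (vanIdeal Z').ι.app U a = (vanIdeal Z).ι.app U (S.f.app U a) from rfl, ha,
      map_sub, map_app_comm, he₁] at hxU'
    have h1 := (notMem_basicOpen_iff _ x hxU).1 hxU'
    rw [show toFn ((Coh.structureModule X).presheaf.map (homOfLE (le_top : U ≤ ⊤)).op
        ((vanIdeal Z).ι.app ⊤ e) - (show Γ(Coh.structureModule X, U) from (1 : Γ(X, U)))) =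
      X.presheaf.map (homOfLE (le_top : U ≤ ⊤)).op f - 1 from rfl, map_sub, map_one] at h1
    have h2 : X.presheaf.germ U x hxU (X.presheaf.map (homOfLE (le_top : U ≤ ⊤)).op f) ∈
        IsLocalRing.maximalIdeal (X.presheaf.stalk x) := by
      refine (notMem_basicOpen_iff _ x hxU).1 ?_
      rw [Scheme.basicOpen_res]
      exact fun hh => hxf hh.2
    exact (IsLocalRing.maximalIdeal.isMaximal (X.presheaf.stalk x)).ne_top
      ((Ideal.eq_top_iff_one _).2 (by simpa using sub_mem h2 h1))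
  · have := Scheme.basicOpen_res X f (homOfLE (le_top : U ≤ ⊤)).op
    rw [inf_eq_right.2 hfU] at this
    rw [← this]
    exact hU.basicOpen _

/-- Functions without common zero on a closed set generate the unit ideal modulo its ideal. -/
theorem vanGlobal_sup_span [CompactSpace X] [QuasiSeparatedSpace X]
    (hv : VanSurj X) (l : List Γ(X, ⊤)) :
    ∀ Z : Set X, IsClosed Z → (∀ z ∈ Z, ∃ f ∈ l, z ∈ X.basicOpen f) →
      vanGlobal Z ⊔ Ideal.span {f | f ∈ l} = ⊤ := by
  induction l with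
  | nil =>
    intro Z _ hZ
    refine eq_top_iff.2 fun s _ => Submodule.mem_sup_left (mem_vanGlobal.2 fun z hz => ?_)
    obtain ⟨f, hf, -⟩ := hZ z hz
    exact absurd hf List.not_mem_nil
  | cons f l ih =>
    intro Z hZc hZ
    have h1 := ih (Z \ (X.basicOpen f : Set X)) (hZc.sdiff (X.basicOpen f).isOpen) (fun z hz => by
      obtain ⟨g, hg, hzg⟩ := hZ z hz.1
      rcases List.mem_cons.1 hg with rfl | hg
      · exact absurd hzg hz.2
      · exact ⟨g, hg, hzg⟩)
    obtain ⟨g, hg, c, hc, hgc⟩ := Submodule.mem_sup.1 ((Ideal.eq_top_iff_one _).1 h1)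
    let ι := (vanIdeal Z).ι
    let Q := cokernel ι
    let π := cokernel.π ι
    have hQ : Coh.IsQCoh Q := isQCoh_cokernel (isQCoh_vanIdeal Z) isQCoh_structureModule ι
    have hS : (ShortComplex.mk ι π (cokernel.condition ι)).ShortExact :=
      .mk' (ShortComplex.exact_of_g_is_cokernel _ (cokernelIsCokernel ι)) inferInstance inferInstance
    have hzero : ∀ {W : X.Opens} (s : Γ(Coh.structureModule X, W)),
        (∀ z ∈ Z, z ∉ X.basicOpen (toFn s)) → π.app W s = 0 := fun {W} s hs => by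
      obtain ⟨t, ht⟩ := (vanIdeal Z).exists_app_eq (s := s) hs
      rw [← ht]
      exact congr(($(cokernel.condition ι)).app W t)
    -- the inverse of `f` on `Z ∩ D(g)`
    let D := X.basicOpen g
    let V : X.Opens := ⟨Zᶜ, hZc.isOpen_compl⟩
    let A : X.Opens := D ⊓ X.basicOpen f
    let B : X.Opens := D ⊓ V
    have hu : IsUnit (X.presheaf.map (homOfLE (le_top : A ≤ ⊤)).op f) := by
      have hu : IsUnit (X.presheaf.map (homOfLE (le_top : X.basicOpen f ≤ ⊤)).op f) :=
        RingedSpace.isUnit_res_basicOpen X.toRingedSpace f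
      have := hu.map (X.presheaf.map (homOfLE (inf_le_right : A ≤ X.basicOpen f)).op).hom
      rwa [← ConcreteCategory.comp_apply, ← X.presheaf.map_comp] at this
    obtain ⟨v, hv'⟩ := hu
    let q₁ : Γ(Q, A) := π.app A (show Γ(Coh.structureModule X, A) from ((v⁻¹ : Γ(X, A)ˣ) : Γ(X, A)))
    have hcov : D ≤ iSup fun b : ULift.{u} Bool => cond b.down A B := fun z hz => by
      by_cases hzZ : z ∈ Z
      · refine Opens.mem_iSup.2 ⟨⟨true⟩, hz, ?_⟩
        by_contra hzf
        exact mem_vanGlobal.1 hg z ⟨hzZ, hzf⟩ hz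
      · exact Opens.mem_iSup.2 ⟨⟨false⟩, hz, hzZ⟩
    have hcomp : Q.presheaf.map (homOfLE (inf_le_left : A ⊓ B ≤ A)).op q₁ = 0 := by
      rw [← map_app_comm]
      refine hzero _ fun z hz hzb => ?_
      exact (X.basicOpen_le _ hzb).2.2 hz
    have hcompat : TopCat.Presheaf.IsCompatible (X := X.toPresheafedSpace.carrier) Q.presheaf
        (fun b : ULift.{u} Bool => cond b.down A B)
        (fun b => match b with
          | ⟨true⟩ => q₁
          | ⟨false⟩ => (0 : Γ(Q, B))) := by
      rintro ⟨_ | _⟩ ⟨_ | _⟩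
      · rfl
      · refine (map_zero (Q.presheaf.map _).hom).trans ?_
        have h' := congrArg (Q.presheaf.map (homOfLE (le_of_eq (inf_comm B A))).op) hcomp
        rw [map_zero, map_map] at h'
        exact h'.symm
      · exact hcomp.trans (map_zero (Q.presheaf.map _).hom).symm
      · rfl
    obtain ⟨q, hq, -⟩ := TopCat.Sheaf.existsUnique_gluing' (X := X.toPresheafedSpace.carrier)
      (⟨Q.presheaf, Q.isSheaf⟩ : TopCat.Sheaf AddCommGrpCat.{u} X.toPresheafedSpace.carrier)
      _ D (fun b => homOfLE (by rcases b with ⟨_ | _⟩ <;> exact inf_le_left)) hcov _ hcompat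
    obtain ⟨n, t, ht⟩ := exists_pow_smul_eq_map_of_isQuasiSeparated hQ isCompact_univ
      (isQuasiSeparated_univ) g q
    obtain ⟨a, rfl⟩ := hv.1 Z t
    let a' : Γ(X, ⊤) := toFn a
    -- `f a - g^n` vanishes on `Z ∩ D(g)`
    let d : Γ(X, ⊤) := f * a' - g ^ n
    have hd : Q.presheaf.map (homOfLE (X.basicOpen_le g)).op
        (π.app ⊤ (show Γ(Coh.structureModule X, ⊤) from d)) = 0 := by
      refine eq_zero_of_locally _ _ fun z hz => ?_
      obtain ⟨⟨b⟩, hzb⟩ := Opens.mem_iSup.1 (hcov hz)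
      cases b with
      | false =>
        refine ⟨B, homOfLE inf_le_left, hzb, ?_⟩
        rw [map_map, ← map_app_comm]
        exact hzero _ fun y hy hyb => (X.basicOpen_le _ hyb).2 hy
      | true =>
        refine ⟨A, homOfLE inf_le_left, hzb, ?_⟩
        have h2 : Q.presheaf.map (homOfLE (inf_le_left : A ≤ D)).op q = q₁ := hq ⟨true⟩
        have e1 : π.app ⊤ (show Γ(Coh.structureModule X, ⊤) from d) =
            f • π.app ⊤ a - g ^ n • π.app ⊤ (show Γ(Coh.structureModule X, ⊤) from (1 : Γ(X, ⊤))) := by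
          rw [← Scheme.Modules.Hom.app_smul, ← Scheme.Modules.Hom.app_smul, ← map_sub]
          refine congrArg (π.app ⊤) ?_
          show f * a' - g ^ n = f * a' - g ^ n * 1
          rw [mul_one]
        rw [map_map, e1, map_sub, map_smul', map_smul', sub_eq_zero, ← map_map (M := Q) (homOfLE (inf_le_left : A ≤ D))
          (homOfLE (X.basicOpen_le g)) (π.app ⊤ a), ht, map_smul', map_pow, h2]
        have e2 : Q.presheaf.map (homOfLE (le_top : A ≤ ⊤)).op
            (π.app ⊤ (show Γ(Coh.structureModule X, ⊤) from (1 : Γ(X, ⊤)))) =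
              π.app A (show Γ(Coh.structureModule X, A) from (1 : Γ(X, A))) := by
          rw [← map_app_comm]
          refine congrArg (π.app A) ?_
          exact map_one (X.presheaf.map (homOfLE (le_top : A ≤ ⊤)).op).hom
        rw [← ConcreteCategory.comp_apply (X.presheaf.map _) (X.presheaf.map _), ← X.presheaf.map_comp, map_pow,
          Subsingleton.elim ((homOfLE (X.basicOpen_le g)).op ≫ (homOfLE (inf_le_left : A ≤ D)).op)
            (homOfLE (le_top : A ≤ ⊤)).op, Subsingleton.elim (homOfLE (inf_le_left : A ≤ D) ≫ homOfLE _)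
            (homOfLE (le_top : A ≤ ⊤)), e2, smul_smul, mul_comm, mul_smul, ← hv', ← Scheme.Modules.Hom.app_smul]
        refine congrArg (_ • ·) (congrArg (π.app A) ?_)
        exact Units.mul_inv v
    obtain ⟨m, hm⟩ := exists_pow_smul_eq_zero_of_isCompact hQ isCompact_univ g _ hd
    rw [← Scheme.Modules.Hom.app_smul] at hm
    obtain ⟨w, hw⟩ := exists_app_f_eq hS ⊤ _ hm
    have hF : g ^ m * d ∈ vanGlobal Z := by
      show (show Γ(Coh.structureModule X, ⊤) from g ^ m * d) ∈ (vanIdeal Z).mem ⊤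
      have := (vanIdeal Z).ι_app_mem ⊤ w
      rwa [hw] at this
    set I := vanGlobal Z ⊔ Ideal.span {x | x ∈ f :: l}
    have hfI : f ∈ I := Submodule.mem_sup_right (Ideal.subset_span List.mem_cons_self)
    have hgI : g ^ (m + n) ∈ I := by
      have : g ^ (m + n) = (g ^ m * a') * f - g ^ m * d := by simp only [d]; ring
      rw [this]
      exact sub_mem (I.mul_mem_left _ hfI) (Submodule.mem_sup_left hF)
    have hcI : c ∈ I := Submodule.mem_sup_right (Ideal.span_mono (fun _ h => List.mem_cons_of_mem f h) hc)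
    refine (Ideal.eq_top_iff_one _).2 ?_
    have h3 : (Ideal.Quotient.mk I g) = 1 := by
      rw [← map_one (Ideal.Quotient.mk I), ← hgc, map_add, (Ideal.Quotient.eq_zero_iff_mem.2 hcI), add_zero]
    rw [← Ideal.Quotient.eq_zero_iff_mem] at hgI ⊢
    rw [map_pow, h3, one_pow] at hgI
    rwa [map_one]

/-- Serre's criterion with the ideals of closed subsets. -/
theorem isAffine_of_vanSurj [CompactSpace X] [QuasiSeparatedSpace X]
    (hv : VanSurj X) : IsAffine X := by
  have hcov : ∀ y : X, ∃ f : Γ(X, ⊤), y ∈ X.basicOpen f ∧ IsAffineOpen (X.basicOpen f) := fun y => by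
    obtain ⟨z, hz, hzc⟩ := IsClosed.exists_closed_singleton (isClosed_closure (s := ({y} : Set X)))
      ⟨y, subset_closure rfl⟩
    obtain ⟨f, hzf, hf⟩ := exists_basicOpen_affine hv hzc
    exact ⟨f, (specializes_iff_mem_closure.2 hz).mem_open (X.basicOpen f).isOpen hzf, hf⟩
  choose f hyf hf using hcov
  obtain ⟨t, ht⟩ := isCompact_univ.elim_finite_subcover (fun y => (X.basicOpen (f y) : Set X))
    (fun y => (X.basicOpen (f y)).isOpen) fun y _ => Set.mem_iUnion.2 ⟨y, hyf y⟩
  let l : List Γ(X, ⊤) := t.toList.map f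
  have h := vanGlobal_sup_span hv l Set.univ isClosed_univ fun z _ => by
    obtain ⟨y, hy, hzy⟩ := Set.mem_iUnion₂.1 (ht (Set.mem_univ z))
    exact ⟨f y, List.mem_map.2 ⟨y, Finset.mem_toList.2 hy, rfl⟩, hzy⟩
  obtain ⟨g, hg, c, hc, hgc⟩ := Submodule.mem_sup.1 ((Ideal.eq_top_iff_one _).1 h)
  have hcu : IsUnit c := by
    refine X.toRingedSpace.isUnit_of_isUnit_germ ⊤ c fun x hx => ?_
    have h1 : X.presheaf.germ ⊤ x hx g ∈ IsLocalRing.maximalIdeal (X.presheaf.stalk x) :=
      (notMem_basicOpen_iff g x hx).1 (mem_vanGlobal.1 hg x trivial)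
    by_contra hnu
    refine (IsLocalRing.maximalIdeal.isMaximal (X.presheaf.stalk x)).ne_top ((Ideal.eq_top_iff_one _).2 ?_)
    rw [← map_one (X.presheaf.germ ⊤ x hx).hom, ← hgc, map_add]
    exact add_mem h1 ((IsLocalRing.mem_maximalIdeal _).2 (mem_nonunits_iff.2 hnu))
  refine isAffine_of_isAffineOpen_basicOpen {a | a ∈ l} (Ideal.eq_top_of_isUnit_mem _ hc hcu) ?_
  rintro a ha
  obtain ⟨y, -, rfl⟩ := List.mem_map.1 ha
  exact hf y

/-- An isomorphism over a common target between restricted vanishing ideals. -/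
theorem exists_vanIdeal_restrict {U : Scheme.{u}} (j : U ⟶ X) [IsOpenImmersion j] (Z : Set U) :
    ∃ e : (vanIdeal (j '' Z)).toModules.restrict j ≅ (vanIdeal Z).toModules,
      e.hom ≫ (vanIdeal Z).ι = (Scheme.Modules.restrictFunctor j).map (vanIdeal (j '' Z)).ι ≫
        (Scheme.Modules.restrictUnitIso j).hom := by
  let e := Scheme.Modules.restrictUnitIso j
  let a := (Scheme.Modules.restrictFunctor j).map (vanIdeal (j '' Z)).ι ≫ e.hom
  haveI := mono_restrict_map j (vanIdeal (j '' Z)).ι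
  haveI : Mono a := mono_comp _ _
  have hsub : Subobject.mk a = Subobject.mk (vanIdeal Z).ι :=
    subobject_eq_of_cover (isQCoh_restrict j (isQCoh_vanIdeal _)) (isQCoh_vanIdeal Z) isQCoh_structureModule a _
      (fun V : U.affineOpens => V.1) (fun V => V.2)
      (fun x => by obtain ⟨V, hV, hxV⟩ := exists_affine_mem x; exact ⟨⟨V, hV⟩, hxV⟩) fun V => ?_
  · exact ⟨Subobject.isoOfMkEqMk a (vanIdeal Z).ι hsub, Subobject.ofMkLEMk_comp hsub.le⟩
  have hb : ∀ (s : Γ(X, j ''ᵁ V.1)), U.basicOpen ((j.appIso V.1).hom s) = V.1 ⊓ j ⁻¹ᵁ X.basicOpen s := fun s => by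
    rw [Scheme.Hom.appIso_hom, ConcreteCategory.comp_apply, Scheme.basicOpen_res, ← Scheme.preimage_basicOpen]
  ext y
  constructor
  · rintro ⟨s, rfl⟩
    refine (vanIdeal Z).exists_app_eq (s := appLin a V.1 s) fun z hz hzb => ?_
    change z ∈ U.basicOpen ((j.appIso V.1).hom (toFn ((vanIdeal (j '' Z)).ι.app (j ''ᵁ V.1) s))) at hzb
    rw [hb] at hzb
    exact (vanIdeal (j '' Z)).ι_app_mem (j ''ᵁ V.1) s (j z) ⟨z, hz, rfl⟩ hzb.2
  · rintro ⟨t, rfl⟩
    let s : Γ(X, j ''ᵁ V.1) := (j.appIso V.1).inv (toFn ((vanIdeal Z).ι.app V.1 t))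
    have hs : (show Γ(Coh.structureModule X, j ''ᵁ V.1) from s) ∈ (vanIdeal (j '' Z)).mem _ := by
      rintro _ ⟨z, hz, rfl⟩ hzb
      refine (vanIdeal Z).ι_app_mem V.1 t z hz ?_
      have hzV : z ∈ V.1 := by
        obtain ⟨z', hz', he⟩ := X.basicOpen_le _ hzb
        exact j.isOpenEmbedding.injective he ▸ hz'
      have h' : z ∈ U.basicOpen ((j.appIso V.1).hom s) := by
        rw [hb]; exact ⟨hzV, hzb⟩
      rwa [← ConcreteCategory.comp_apply, Iso.inv_hom_id] at h'
    obtain ⟨w, hw⟩ := (vanIdeal (j '' Z)).exists_app_eq hs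
    refine ⟨w, ?_⟩
    show (j.appIso V.1).hom (toFn ((vanIdeal (j '' Z)).ι.app (j ''ᵁ V.1) w)) = _
    rw [hw, show toFn (show Γ(Coh.structureModule X, j ''ᵁ V.1) from s) = s from rfl,
      ← ConcreteCategory.comp_apply, Iso.inv_hom_id]
    rfl

theorem surjective_app_transfer {U : Scheme.{u}} (j : U ⟶ X) [IsOpenImmersion j]
    {A B : X.Modules} {A' B' : U.Modules} (a : A ⟶ B) (a' : A' ⟶ B') (eA : A.restrict j ≅ A')
    (eB : B.restrict j ≅ B') (w : eA.hom ≫ a' = (Scheme.Modules.restrictFunctor j).map a ≫ eB.hom)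
    (h : Function.Surjective ((cokernel.π a).app (j ''ᵁ ⊤))) :
    Function.Surjective ((cokernel.π a').app ⊤) := by
  let R := Scheme.Modules.restrictFunctor j
  let c : R.obj (cokernel a) ≅ cokernel a' :=
    PreservesCokernel.iso R a ≪≫ cokernel.mapIso _ _ eA eB w.symm
  have hc : R.map (cokernel.π a) ≫ c.hom = eB.hom ≫ cokernel.π a' := by
    simp [c, cokernel.mapIso]
  intro t
  obtain ⟨s, hs⟩ := h (c.inv.app ⊤ t)
  refine ⟨eB.hom.app ⊤ s, ?_⟩
  have h1 := congr(($hc).app ⊤ s)
  refine h1.symm.trans ?_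
  show c.hom.app ⊤ ((cokernel.π a).app (j ''ᵁ ⊤) s) = t
  rw [hs]
  exact congr(($(c.inv_hom_id)).app ⊤ t)

theorem vanSurj_preimage {Y : Scheme.{u}} (f : X ⟶ Y) [QuasiCompact f] [QuasiSeparated f]
    (h : ∀ (F F'' : X.Modules) (p : F ⟶ F''), Coh.IsQCoh F → Coh.IsQCoh F'' → Epi p →
      Epi ((Scheme.Modules.pushforward f).map p))
    {U : Y.Opens} (hU : IsAffineOpen U) : VanSurj (f ⁻¹ᵁ U : Scheme.{u}) := by
  have key : ∀ {A B : X.Modules}, Coh.IsQCoh A → Coh.IsQCoh B → ∀ (a : A ⟶ B),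
      Function.Surjective ((cokernel.π a).app ((f ⁻¹ᵁ U).ι ''ᵁ ⊤)) := by
    intro A B hA hB a
    haveI := h _ _ (cokernel.π a) hB (isQCoh_cokernel hA hB a) inferInstance
    rw [Scheme.Opens.ι_image_top]
    exact app_surjective_of_epi (isQCoh_pushforward f hB)
      (isQCoh_pushforward f (isQCoh_cokernel hA hB a)) ((Scheme.Modules.pushforward f).map (cokernel.π a)) hU
  let j := (f ⁻¹ᵁ U).ι
  refine ⟨fun Z => ?_, fun Z' Z hle => ?_⟩
  · obtain ⟨e, he⟩ := exists_vanIdeal_restrict j Z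
    exact surjective_app_transfer j _ _ e (Scheme.Modules.restrictUnitIso j) he
      (key (isQCoh_vanIdeal _) isQCoh_structureModule _)
  · obtain ⟨e, he⟩ := exists_vanIdeal_restrict j Z
    obtain ⟨e', he'⟩ := exists_vanIdeal_restrict j Z'
    refine surjective_app_transfer j (SubMod.homOfLE (vanIdeal_mono (Set.image_mono hle))) _ e' e ?_
      (key (isQCoh_vanIdeal _) (isQCoh_vanIdeal _) _)
    rw [← cancel_mono (vanIdeal Z).ι, Category.assoc, Category.assoc, SubMod.homOfLE_ι, he, he',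
      ← Category.assoc, ← Functor.map_comp, SubMod.homOfLE_ι]

/-- A qcqs morphism whose direct image keeps epimorphisms of quasi-coherent modules is affine. -/
theorem isAffineHom_of_pushforward_epi {Y : Scheme.{u}} (f : X ⟶ Y) [QuasiCompact f] [QuasiSeparated f]
    (h : ∀ (F F'' : X.Modules) (p : F ⟶ F''), Coh.IsQCoh F → Coh.IsQCoh F'' → Epi p →
      Epi ((Scheme.Modules.pushforward f).map p)) : IsAffineHom f := by
  refine ⟨fun U hU => ?_⟩
  haveI : CompactSpace (f ⁻¹ᵁ U : Scheme.{u}) :=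
    isCompact_iff_compactSpace.1 (f.isCompact_preimage hU.isCompact)
  haveI : QuasiSeparatedSpace (f ⁻¹ᵁ U : Scheme.{u}) :=
    (isQuasiSeparated_iff_quasiSeparatedSpace _ (f ⁻¹ᵁ U).isOpen).1
      ((f.isQuasiSeparated_preimage hU.isQuasiSeparated))
  exact isAffine_of_vanSurj (vanSurj_preimage f h hU)

/-- No quasi-separatedness needed. -/
theorem quasiSeparatedSpace_of_vanSurj [CompactSpace X] (h : VanSurj X) : QuasiSeparatedSpace X := by
  have hcov : ∀ y : X, ∃ f : Γ(X, ⊤), y ∈ X.basicOpen f ∧ IsAffineOpen (X.basicOpen f) := fun y => by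
    obtain ⟨z, hz, hzc⟩ := IsClosed.exists_closed_singleton (isClosed_closure (s := ({y} : Set X)))
      ⟨y, subset_closure rfl⟩
    obtain ⟨f, hzf, hf⟩ := exists_basicOpen_affine h hzc
    exact ⟨f, (specializes_iff_mem_closure.2 hz).mem_open (X.basicOpen f).isOpen hzf, hf⟩
  choose f hyf hf using hcov
  obtain ⟨t, ht⟩ := isCompact_univ.elim_finite_subcover (fun y => (X.basicOpen (f y) : Set X))
    (fun y => (X.basicOpen (f y)).isOpen) fun y _ => Set.mem_iUnion.2 ⟨y, hyf y⟩
  rw [quasiSeparatedSpace_iff_forall_affineOpens]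
  intro U V
  rw [← Set.inter_univ (_ ∩ _), ← Set.univ_subset_iff.1 ht, Set.inter_iUnion₂]
  refine t.isCompact_biUnion fun y _ => ?_
  rw [Set.inter_inter_distrib_right]
  refine (hf y).isQuasiSeparated _ _ Set.inter_subset_right
    (U.1.2.inter (X.basicOpen _).2) ?_ Set.inter_subset_right (V.1.2.inter (X.basicOpen _).2) ?_
  · rw [← Opens.coe_inf, ← X.basicOpen_res _ (homOfLE le_top).op]
    exact (U.2.basicOpen _).isCompact
  · rw [← Opens.coe_inf, ← X.basicOpen_res _ (homOfLE le_top).op]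
    exact (V.2.basicOpen _).isCompact

theorem isAffine_of_vanSurj_compact [CompactSpace X] (h : VanSurj X) : IsAffine X := by
  haveI := quasiSeparatedSpace_of_vanSurj h
  exact isAffine_of_vanSurj h

end Groth.Agent.QCoh.SerreEpi
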