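import Groth.Agent.QCoh.OpenSub
import Groth.Agent.QCoh.SubCompare

/-!
# Serre's criterion with the ideals of closed subsets only

A quasi-compact quasi-separated scheme is affine as soon as the ideals of functions vanishing on closed
subsets have no first cohomology.
-/

universe u

set_option backward.isDefEq.respectTransparency false
set_option backward.isDefEq.respectTransparency.types false

open CategoryTheory CategoryTheory.Limits AlgebraicGeometry TopologicalSpace Opposite

namespace Groth.Agent.QCoh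

variable {X : Scheme.{u}}

/-- The global functions vanishing on `Z`, as an ideal. -/
noncomputable def vanGlobal (Z : Set X) : Ideal Γ(X, ⊤) where
  carrier := {s | ∀ z ∈ Z, z ∉ X.basicOpen s}
  add_mem' := fun {a b} ha hb => ((vanIdeal Z).mem ⊤).add_mem
    (show (show Γ(Coh.structureModule X, ⊤) from a) ∈ (vanIdeal Z).mem ⊤ from ha)
    (show (show Γ(Coh.structureModule X, ⊤) from b) ∈ (vanIdeal Z).mem ⊤ from hb)
  zero_mem' := ((vanIdeal Z).mem ⊤).zero_mem
  smul_mem' := fun r a ha => ((vanIdeal Z).mem ⊤).smul_mem r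
    (show (show Γ(Coh.structureModule X, ⊤) from a) ∈ (vanIdeal Z).mem ⊤ from ha)

theorem mem_vanGlobal {Z : Set X} {s : Γ(X, ⊤)} :
    s ∈ vanGlobal Z ↔ ∀ z ∈ Z, z ∉ X.basicOpen s := Iff.rfl

/-- Functions without common zero on a closed set generate the unit ideal modulo its ideal. -/
theorem vanGlobal_sup_span [CompactSpace X] [QuasiSeparatedSpace X]
    (hv : ∀ Z : Set X, IsClosed Z → Subsingleton (Coh.HH X (vanIdeal Z).toModules 1)) (l : List Γ(X, ⊤)) :
    ∀ Z : Set X, IsClosed Z → (∀ z ∈ Z, ∃ f ∈ l, z ∈ X.basicOpen f) →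
      vanGlobal Z ⊔ Ideal.span {f | f ∈ l} = ⊤ := by
  induction l with
  | nil =>
    intro Z _ hZ
    refine eq_top_iff.2 fun s _ => Submodule.mem_sup_left (mem_vanGlobal.2 fun z hz => ?_)
    obtain ⟨f, hf, -⟩ := hZ z hz
    exact absurd hf List.not_mem_nil
  | cons f l ih =>
    intro Z hZc hZ
    have h1 := ih (Z \ (X.basicOpen f : Set X)) (hZc.sdiff (X.basicOpen f).isOpen) (fun z hz => by
      obtain ⟨g, hg, hzg⟩ := hZ z hz.1
      rcases List.mem_cons.1 hg with rfl | hg
      · exact absurd hzg hz.2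
      · exact ⟨g, hg, hzg⟩)
    obtain ⟨g, hg, c, hc, hgc⟩ := Submodule.mem_sup.1 ((Ideal.eq_top_iff_one _).1 h1)
    let ι := (vanIdeal Z).ι
    let Q := cokernel ι
    let π := cokernel.π ι
    have hQ : Coh.IsQCoh Q := isQCoh_cokernel (isQCoh_vanIdeal Z) isQCoh_structureModule ι
    have hS : (ShortComplex.mk ι π (cokernel.condition ι)).ShortExact :=
      .mk' (ShortComplex.exact_of_g_is_cokernel _ (cokernelIsCokernel ι)) inferInstance inferInstance
    have hzero : ∀ {W : X.Opens} (s : Γ(Coh.structureModule X, W)),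
        (∀ z ∈ Z, z ∉ X.basicOpen (toFn s)) → π.app W s = 0 := fun {W} s hs => by
      obtain ⟨t, ht⟩ := (vanIdeal Z).exists_app_eq (s := s) hs
      rw [← ht]
      exact congr(($(cokernel.condition ι)).app W t)
    -- the inverse of `f` on `Z ∩ D(g)`
    let D := X.basicOpen g
    let V : X.Opens := ⟨Zᶜ, hZc.isOpen_compl⟩
    let A : X.Opens := D ⊓ X.basicOpen f
    let B : X.Opens := D ⊓ V
    have hu : IsUnit (X.presheaf.map (homOfLE (le_top : A ≤ ⊤)).op f) := by
      have hu : IsUnit (X.presheaf.map (homOfLE (le_top : X.basicOpen f ≤ ⊤)).op f) :=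
        RingedSpace.isUnit_res_basicOpen X.toRingedSpace f
      have := hu.map (X.presheaf.map (homOfLE (inf_le_right : A ≤ X.basicOpen f)).op).hom
      rwa [← ConcreteCategory.comp_apply, ← X.presheaf.map_comp] at this
    obtain ⟨v, hv'⟩ := hu
    let q₁ : Γ(Q, A) := π.app A (show Γ(Coh.structureModule X, A) from ((v⁻¹ : Γ(X, A)ˣ) : Γ(X, A)))
    have hcov : D ≤ iSup fun b : ULift.{u} Bool => cond b.down A B := fun z hz => by
      by_cases hzZ : z ∈ Z
      · refine Opens.mem_iSup.2 ⟨⟨true⟩, hz, ?_⟩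
        by_contra hzf
        exact mem_vanGlobal.1 hg z ⟨hzZ, hzf⟩ hz
      · exact Opens.mem_iSup.2 ⟨⟨false⟩, hz, hzZ⟩
    have hcomp : Q.presheaf.map (homOfLE (inf_le_left : A ⊓ B ≤ A)).op q₁ = 0 := by
      rw [← map_app_comm]
      refine hzero _ fun z hz hzb => ?_
      exact (X.basicOpen_le _ hzb).2.2 hz
    have hcompat : TopCat.Presheaf.IsCompatible (X := X.toPresheafedSpace.carrier) Q.presheaf
        (fun b : ULift.{u} Bool => cond b.down A B)
        (fun b => match b with
          | ⟨true⟩ => q₁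
          | ⟨false⟩ => (0 : Γ(Q, B))) := by
      rintro ⟨_ | _⟩ ⟨_ | _⟩
      · rfl
      · refine (map_zero (Q.presheaf.map _).hom).trans ?_
        have h' := congrArg (Q.presheaf.map (homOfLE (le_of_eq (inf_comm B A))).op) hcomp
        rw [map_zero, map_map] at h'
        exact h'.symm
      · exact hcomp.trans (map_zero (Q.presheaf.map _).hom).symm
      · rfl
    obtain ⟨q, hq, -⟩ := TopCat.Sheaf.existsUnique_gluing' (X := X.toPresheafedSpace.carrier)
      (⟨Q.presheaf, Q.isSheaf⟩ : TopCat.Sheaf AddCommGrpCat.{u} X.toPresheafedSpace.carrier)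
      _ D (fun b => homOfLE (by rcases b with ⟨_ | _⟩ <;> exact inf_le_left)) hcov _ hcompat
    obtain ⟨n, t, ht⟩ := exists_pow_smul_eq_map_of_isQuasiSeparated hQ isCompact_univ
      (isQuasiSeparated_univ) g q
    obtain ⟨a, rfl⟩ := app_top_surjective_of_HH_one hS (hv Z hZc) t
    let a' : Γ(X, ⊤) := toFn a
    -- `f a - g^n` vanishes on `Z ∩ D(g)`
    let d : Γ(X, ⊤) := f * a' - g ^ n
    have hd : Q.presheaf.map (homOfLE (X.basicOpen_le g)).op
        (π.app ⊤ (show Γ(Coh.structureModule X, ⊤) from d)) = 0 := by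
      refine eq_zero_of_locally _ _ fun z hz => ?_
      obtain ⟨⟨b⟩, hzb⟩ := Opens.mem_iSup.1 (hcov hz)
      cases b with
      | false =>
        refine ⟨B, homOfLE inf_le_left, hzb, ?_⟩
        rw [map_map, ← map_app_comm]
        exact hzero _ fun y hy hyb => (X.basicOpen_le _ hyb).2 hy
      | true =>
        refine ⟨A, homOfLE inf_le_left, hzb, ?_⟩
        have h2 : Q.presheaf.map (homOfLE (inf_le_left : A ≤ D)).op q = q₁ := hq ⟨true⟩
        have e1 : π.app ⊤ (show Γ(Coh.structureModule X, ⊤) from d) =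
            f • π.app ⊤ a - g ^ n • π.app ⊤ (show Γ(Coh.structureModule X, ⊤) from (1 : Γ(X, ⊤))) := by
          rw [← Scheme.Modules.Hom.app_smul, ← Scheme.Modules.Hom.app_smul, ← map_sub]
          refine congrArg (π.app ⊤) ?_
          show f * a' - g ^ n = f * a' - g ^ n * 1
          rw [mul_one]
        rw [map_map, e1, map_sub, map_smul', map_smul', sub_eq_zero, ← map_map (M := Q) (homOfLE (inf_le_left : A ≤ D))
          (homOfLE (X.basicOpen_le g)) (π.app ⊤ a), ht, map_smul', map_pow, h2]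
        have e2 : Q.presheaf.map (homOfLE (le_top : A ≤ ⊤)).op
            (π.app ⊤ (show Γ(Coh.structureModule X, ⊤) from (1 : Γ(X, ⊤)))) =
              π.app A (show Γ(Coh.structureModule X, A) from (1 : Γ(X, A))) := by
          rw [← map_app_comm]
          refine congrArg (π.app A) ?_
          exact map_one (X.presheaf.map (homOfLE (le_top : A ≤ ⊤)).op).hom
        rw [← ConcreteCategory.comp_apply (X.presheaf.map _) (X.presheaf.map _), ← X.presheaf.map_comp, map_pow,
          Subsingleton.elim ((homOfLE (X.basicOpen_le g)).op ≫ (homOfLE (inf_le_left : A ≤ D)).op)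
            (homOfLE (le_top : A ≤ ⊤)).op, Subsingleton.elim (homOfLE (inf_le_left : A ≤ D) ≫ homOfLE _)
            (homOfLE (le_top : A ≤ ⊤)), e2, smul_smul, mul_comm, mul_smul, ← hv', ← Scheme.Modules.Hom.app_smul]
        refine congrArg (_ • ·) (congrArg (π.app A) ?_)
        exact Units.mul_inv v
    obtain ⟨m, hm⟩ := exists_pow_smul_eq_zero_of_isCompact hQ isCompact_univ g _ hd
    rw [← Scheme.Modules.Hom.app_smul] at hm
    obtain ⟨w, hw⟩ := exists_app_f_eq hS ⊤ _ hm
    have hF : g ^ m * d ∈ vanGlobal Z := by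
      show (show Γ(Coh.structureModule X, ⊤) from g ^ m * d) ∈ (vanIdeal Z).mem ⊤
      have := (vanIdeal Z).ι_app_mem ⊤ w
      rwa [hw] at this
    set I := vanGlobal Z ⊔ Ideal.span {x | x ∈ f :: l}
    have hfI : f ∈ I := Submodule.mem_sup_right (Ideal.subset_span List.mem_cons_self)
    have hgI : g ^ (m + n) ∈ I := by
      have : g ^ (m + n) = (g ^ m * a') * f - g ^ m * d := by simp only [d]; ring
      rw [this]
      exact sub_mem (I.mul_mem_left _ hfI) (Submodule.mem_sup_left hF)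
    have hcI : c ∈ I := Submodule.mem_sup_right (Ideal.span_mono (fun _ h => List.mem_cons_of_mem f h) hc)
    refine (Ideal.eq_top_iff_one _).2 ?_
    have h3 : (Ideal.Quotient.mk I g) = 1 := by
      rw [← map_one (Ideal.Quotient.mk I), ← hgc, map_add, (Ideal.Quotient.eq_zero_iff_mem.2 hcI), add_zero]
    rw [← Ideal.Quotient.eq_zero_iff_mem] at hgI ⊢
    rw [map_pow, h3, one_pow] at hgI
    rwa [map_one]

/-- Serre's criterion with the ideals of closed subsets. -/
theorem isAffine_of_vanIdeal [CompactSpace X] [QuasiSeparatedSpace X]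
    (hv : ∀ Z : Set X, IsClosed Z → Subsingleton (Coh.HH X (vanIdeal Z).toModules 1)) : IsAffine X := by
  have hcov : ∀ y : X, ∃ f : Γ(X, ⊤), y ∈ X.basicOpen f ∧ IsAffineOpen (X.basicOpen f) := fun y => by
    obtain ⟨z, hz, hzc⟩ := IsClosed.exists_closed_singleton (isClosed_closure (s := ({y} : Set X)))
      ⟨y, subset_closure rfl⟩
    obtain ⟨f, hzf, hf⟩ := exists_basicOpen_affine hv hzc
    exact ⟨f, (specializes_iff_mem_closure.2 hz).mem_open (X.basicOpen f).isOpen hzf, hf⟩
  choose f hyf hf using hcov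
  obtain ⟨t, ht⟩ := isCompact_univ.elim_finite_subcover (fun y => (X.basicOpen (f y) : Set X))
    (fun y => (X.basicOpen (f y)).isOpen) fun y _ => Set.mem_iUnion.2 ⟨y, hyf y⟩
  let l : List Γ(X, ⊤) := t.toList.map f
  have h := vanGlobal_sup_span hv l Set.univ isClosed_univ fun z _ => by
    obtain ⟨y, hy, hzy⟩ := Set.mem_iUnion₂.1 (ht (Set.mem_univ z))
    exact ⟨f y, List.mem_map.2 ⟨y, Finset.mem_toList.2 hy, rfl⟩, hzy⟩
  obtain ⟨g, hg, c, hc, hgc⟩ := Submodule.mem_sup.1 ((Ideal.eq_top_iff_one _).1 h)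
  have hcu : IsUnit c := by
    refine X.toRingedSpace.isUnit_of_isUnit_germ ⊤ c fun x hx => ?_
    have h1 : X.presheaf.germ ⊤ x hx g ∈ IsLocalRing.maximalIdeal (X.presheaf.stalk x) :=
      (notMem_basicOpen_iff g x hx).1 (mem_vanGlobal.1 hg x trivial)
    by_contra hnu
    refine (IsLocalRing.maximalIdeal.isMaximal (X.presheaf.stalk x)).ne_top ((Ideal.eq_top_iff_one _).2 ?_)
    rw [← map_one (X.presheaf.germ ⊤ x hx).hom, ← hgc, map_add]
    exact add_mem h1 ((IsLocalRing.mem_maximalIdeal _).2 (mem_nonunits_iff.2 hnu))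
  refine isAffine_of_isAffineOpen_basicOpen {a | a ∈ l} (Ideal.eq_top_of_isUnit_mem _ hc hcu) ?_
  rintro a ha
  obtain ⟨y, -, rfl⟩ := List.mem_map.1 ha
  exact hf y

/-- Vanishing ideals restrict to vanishing ideals. -/
theorem nonempty_vanIdeal_restrict {U : Scheme.{u}} (j : U ⟶ X) [IsOpenImmersion j] (Z : Set U) :
    Nonempty ((vanIdeal (j '' Z)).toModules.restrict j ≅ (vanIdeal Z).toModules) := by
  let e := Scheme.Modules.restrictUnitIso j
  let a := (Scheme.Modules.restrictFunctor j).map (vanIdeal (j '' Z)).ι ≫ e.hom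
  haveI := mono_restrict_map j (vanIdeal (j '' Z)).ι
  haveI : Mono a := mono_comp _ _
  refine ⟨Subobject.isoOfMkEqMk a (vanIdeal Z).ι
    (subobject_eq_of_cover (isQCoh_restrict j (isQCoh_vanIdeal _)) (isQCoh_vanIdeal Z) isQCoh_structureModule a _
      (fun V : U.affineOpens => V.1) (fun V => V.2)
      (fun x => by obtain ⟨V, hV, hxV⟩ := exists_affine_mem x; exact ⟨⟨V, hV⟩, hxV⟩) fun V => ?_)⟩
  have hb : ∀ (s : Γ(X, j ''ᵁ V.1)), U.basicOpen ((j.appIso V.1).hom s) = V.1 ⊓ j ⁻¹ᵁ X.basicOpen s := fun s => by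
    rw [Scheme.Hom.appIso_hom, ConcreteCategory.comp_apply, Scheme.basicOpen_res, ← Scheme.preimage_basicOpen]
  ext y
  constructor
  · rintro ⟨s, rfl⟩
    refine (vanIdeal Z).exists_app_eq (s := appLin a V.1 s) fun z hz hzb => ?_
    change z ∈ U.basicOpen ((j.appIso V.1).hom (toFn ((vanIdeal (j '' Z)).ι.app (j ''ᵁ V.1) s))) at hzb
    rw [hb] at hzb
    exact (vanIdeal (j '' Z)).ι_app_mem (j ''ᵁ V.1) s (j z) ⟨z, hz, rfl⟩ hzb.2
  · rintro ⟨t, rfl⟩
    let s : Γ(X, j ''ᵁ V.1) := (j.appIso V.1).inv (toFn ((vanIdeal Z).ι.app V.1 t))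
    have hs : (show Γ(Coh.structureModule X, j ''ᵁ V.1) from s) ∈ (vanIdeal (j '' Z)).mem _ := by
      rintro _ ⟨z, hz, rfl⟩ hzb
      refine (vanIdeal Z).ι_app_mem V.1 t z hz ?_
      have hzV : z ∈ V.1 := by
        obtain ⟨z', hz', he⟩ := X.basicOpen_le _ hzb
        exact j.isOpenEmbedding.injective he ▸ hz'
      have h' : z ∈ U.basicOpen ((j.appIso V.1).hom s) := by
        rw [hb]; exact ⟨hzV, hzb⟩
      rwa [← ConcreteCategory.comp_apply, Iso.inv_hom_id] at h'
    obtain ⟨w, hw⟩ := (vanIdeal (j '' Z)).exists_app_eq hs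
    refine ⟨w, ?_⟩
    show (j.appIso V.1).hom (toFn ((vanIdeal (j '' Z)).ι.app (j ''ᵁ V.1) w)) = _
    rw [hw, show toFn (show Γ(Coh.structureModule X, j ''ᵁ V.1) from s) = s from rfl,
      ← ConcreteCategory.comp_apply, Iso.inv_hom_id]
    rfl

/-- An open with vanishing first cohomology of the quasi-coherent ideals of the ambient scheme is affine. -/
theorem isAffine_of_HU_one_vanIdeal {U : Scheme.{u}} (j : U ⟶ X) [IsOpenImmersion j] [CompactSpace U]
    [QuasiSeparatedSpace U]
    (h : ∀ (I : X.Modules) (ι : I ⟶ Coh.structureModule X), Mono ι → Coh.IsQCoh I →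
      Subsingleton (CohTop.HU (X := X.toPresheafedSpace.carrier) (abSheaf I) 1 j.opensRange)) :
    IsAffine U := by
  refine isAffine_of_vanIdeal fun Z _ => ?_
  obtain ⟨e⟩ := nonempty_vanIdeal_restrict j Z
  exact subsingleton_HH_of_iso e 1 (subsingleton_HH_restrict j _ 0
    (h _ (vanIdeal (j '' Z)).ι inferInstance (isQCoh_vanIdeal _)))

end Groth.Agent.QCoh
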